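import Groth.Agent.PCInvLib.Main
import Groth.Agent.RelConeLib.Cone
import Groth.Agent.RelConeLib.DomCone

/-! Exchange of the zero and infinity sections of the projective closures of inverse line bundles. -/

set_option autoImplicit false
set_option maxHeartbeats 2000000
set_option backward.isDefEq.respectTransparency false
universe u

open CategoryTheory CategoryTheory.Limits AlgebraicGeometry TopologicalSpace Opposite HomogeneousLocalization
open AmpleLib (GenOn res shT)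
open scoped HomogeneousIdeal

noncomputable section

namespace Groth.Agent.PCSwapLib

open PCInvLib (Frame coef coef_spec coef_eq coef_smul)

section Twist

variable {A B σ τ : Type u} [CommRing A] [SetLike σ A] [AddSubgroupClass σ A] [CommRing B] [SetLike τ B]
  [AddSubgroupClass τ B] {𝒜 : ℕ → σ} {ℬ : ℕ → τ} [GradedRing 𝒜] [GradedRing ℬ]

theorem map_congr {g₁ g₂ : 𝒜 →+*ᵍ ℬ} (e : g₁ = g₂) (h₁ : ℬ₊ ≤ 𝒜₊.map g₁) (h₂ : ℬ₊ ≤ 𝒜₊.map g₂) :
    Proj.map g₁ h₁ = Proj.map g₂ h₂ := by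
  subst e; rfl

theorem map_eq_of_twist (g₁ g₂ : 𝒜 →+*ᵍ ℬ) (h₁ : ℬ₊ ≤ 𝒜₊.map g₁) (h₂ : ℬ₊ ≤ 𝒜₊.map g₂) (c d : B)
    (hd : d ∈ ℬ 0) (hcd : c * d = 1) (hg : ∀ n a, a ∈ 𝒜 n → g₁ a = c ^ n * g₂ a) :
    Proj.map g₁ h₁ = Proj.map g₂ h₂ := by
  refine (Proj.mapAffineOpenCover g₂ h₂).openCover.hom_ext _ _ fun s => ?_
  obtain ⟨⟨n, hn⟩, ⟨a, ha⟩⟩ := s
  simp only [Scheme.AffineOpenCover.openCover_f, Proj.mapAffineOpenCover_f]
  show Proj.awayι ℬ (g₂ a) (g₂.2 ha) hn ≫ _ = Proj.awayι ℬ (g₂ a) (g₂.2 ha) hn ≫ _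
  rw [Proj.awayι_comp_map g₂ _ hn a ha]
  have hpow : ∀ m, c ^ m * d ^ m = 1 := fun m => by rw [← mul_pow, hcd, one_pow]
  have hdn : d ^ n ∈ ℬ 0 := by simpa using SetLike.pow_mem_graded n hd
  have hx : g₂ a = g₁ a * d ^ n := by rw [hg n a ha, mul_right_comm, hpow, one_mul]
  have e := Proj.SpecMap_awayMap_awayι ℬ (g₁.2 ha) hn hdn hx
  erw [← e]
  rw [Category.assoc]
  erw [Proj.awayι_comp_map g₁ _ hn a ha]
  rw [← Category.assoc, ← Spec.map_comp]
  congr 2
  refine CommRingCat.hom_ext (RingHom.ext fun q => ?_)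
  obtain ⟨k, x, hxk, rfl⟩ := q.mk_surjective _ ha
  show awayMap ℬ hdn hx (Away.map g₁ a (Away.mk 𝒜 ha k x hxk)) = Away.map g₂ a (Away.mk 𝒜 ha k x hxk)
  rw [Away.map_mk, Away.map_mk, awayMap_mk]
  refine val_injective _ ?_
  rw [Away.val_mk, Away.val_mk]
  congr 1
  rw [hg _ x hxk]
  show c ^ (k * n) * g₂ x * (d ^ n) ^ k = g₂ x
  rw [← pow_mul, mul_comm n k, mul_right_comm, hpow, one_mul]

end Twist

variable {Y : Scheme.{u}}

section One

variable {M : Y.Modules} [Coh.IsQCoh M] {𝒯 𝒯h : RelProj.QCGrAlg Y} {k : M ⟶ 𝒯.toModule}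
  (hk : RelProj.IsGrSymAlg M 𝒯 k) {ι : 𝒯.toQCAlg ⟶ 𝒯h.toQCAlg} {z : 𝒯h.presheaf.obj (op ⊤)}
  (hz : RelCone.IsPolyOver 𝒯 𝒯h ι z) {U : Y.Opens} (hU : IsAffineOpen U) {e : Γ(M, U)} (he : GenOn M e)

abbrev zU (𝒯h : RelProj.QCGrAlg Y) (z : 𝒯h.presheaf.obj (op ⊤)) (U : Y.Opens) : 𝒯h.presheaf.obj (op U) :=
  RelCone.restrictTop 𝒯h z U

abbrev tU (e : Γ(M, U)) : 𝒯h.presheaf.obj (op U) := RelProj.gradedHomAt ι hz.graded U hU (k.app U e)

include hk in
theorem tU_mem (e : Γ(M, U)) : tU (k := k) hz hU e ∈ 𝒯h.deg U hU 1 :=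
  (RelProj.gradedHomAt ι hz.graded U hU).2 (hk.2 U hU e)

include hk hU he in
theorem homT_ext {R : Type u} [CommRing R] (f₁ f₂ : 𝒯.presheaf.obj (op U) →+* R)
    (hs : ∀ r, f₁ (𝒯.str.app (op U) r) = f₂ (𝒯.str.app (op U) r)) (he' : f₁ (k.app U e) = f₂ (k.app U e)) :
    f₁ = f₂ := by
  have hm : ∀ m, (show 𝒯.presheaf.obj (op U) from k.app U m) =
      𝒯.str.app (op U) (coef he m) * (show 𝒯.presheaf.obj (op U) from k.app U e) := fun m =>
    (congrArg (fun n => k.app U n) (coef_spec he m).symm).trans (QCohLib.app_smul k U (coef he m) e)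
  refine (SymAlgLib.existsUnique_hom (A := 𝒯.toQCAlg) hk.1 hU (R := R) (f₁.comp (𝒯.str.app (op U)).hom)
    (AddMonoidHom.mk' (fun m => f₁ (k.app U m)) fun a b => by
      rw [map_add (k.app U).hom a b]; exact map_add f₁ _ _)
    fun r m => ?_).unique ⟨fun r => rfl, fun m => rfl⟩ ⟨fun r => (hs r).symm, fun m => ?_⟩
  · show f₁ (k.app U (r • m)) = _
    erw [QCohLib.app_smul k U r m]
    exact map_mul f₁ _ _
  · show f₂ (k.app U m) = f₁ (k.app U m)
    refine (congrArg f₂ (hm m)).trans (Eq.trans ?_ (congrArg f₁ (hm m)).symm)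
    rw [map_mul, map_mul, hs]
    exact congrArg (_ * ·) he'.symm

include hk he in
theorem exists_lift {R : Type u} [CommRing R] (c : Γ(Y, U) →+* R) (a b : R) :
    ∃ f : 𝒯h.presheaf.obj (op U) →+* R, (∀ r, f (𝒯h.str.app (op U) r) = c r) ∧
      f (tU (k := k) hz hU e) = a ∧ f (zU 𝒯h z U) = b := by
  obtain ⟨g, ⟨h1, h2⟩, -⟩ := SymAlgLib.existsUnique_hom (A := 𝒯.toQCAlg) hk.1 hU (R := R) c
    ((AddMonoidHom.mulRight a).comp (c.toAddMonoidHom.comp (coef he)))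
    fun r m => by
      show c (coef he (r • m)) * a = _
      rw [coef_smul, map_mul, mul_assoc]
      rfl
  let f := (Polynomial.eval₂RingHom g b).comp (hz.polyEquiv U hU).symm.toRingHom
  have hι : ∀ x, f (RelProj.gradedHomAt ι hz.graded U hU x) = g x := fun x => by
    have h : hz.polyEquiv U hU (Polynomial.C x) = RelProj.gradedHomAt ι hz.graded U hU x := by
      rw [hz.polyEquiv_apply, Polynomial.eval₂_C]; rfl
    rw [← h]
    simp [f]
  refine ⟨f, fun r => ?_, ?_, ?_⟩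
  · rw [show 𝒯h.str.app (op U) r = RelProj.gradedHomAt ι hz.graded U hU (𝒯.str.app (op U) r) from
      (MiscFlat6.gradedHomAt_strZero (φ := ι) (hφ := hz.graded) U hU r).symm, hι]
    exact h1 r
  · rw [tU, hι]
    refine (h2 e).trans ?_
    show c (coef he e) * a = a
    have h3 : coef he e = 1 := by simpa using coef_eq he 1
    rw [h3, map_one, one_mul]
  · have h : hz.polyEquiv U hU Polynomial.X = zU 𝒯h z U := by rw [hz.polyEquiv_apply, Polynomial.eval₂_X]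
    rw [← h]
    simp [f]

include hk he in
theorem hom_ext {R : Type u} [CommRing R] (f₁ f₂ : 𝒯h.presheaf.obj (op U) →+* R)
    (hs : ∀ r, f₁ (𝒯h.str.app (op U) r) = f₂ (𝒯h.str.app (op U) r))
    (ht : f₁ (tU (k := k) hz hU e) = f₂ (tU (k := k) hz hU e)) (hz' : f₁ (zU 𝒯h z U) = f₂ (zU 𝒯h z U)) :
    f₁ = f₂ := by
  have hg := homT_ext hk hU he (f₁.comp (RelProj.gradedHomAt ι hz.graded U hU).toRingHom)
    (f₂.comp (RelProj.gradedHomAt ι hz.graded U hU).toRingHom) (fun r => by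
      have h := MiscFlat6.gradedHomAt_strZero (φ := ι) (hφ := hz.graded) U hU r
      exact (congrArg f₁ h).trans ((hs r).trans (congrArg f₂ h).symm)) ht
  have key : f₁.comp (hz.polyEquiv U hU).toRingHom = f₂.comp (hz.polyEquiv U hU).toRingHom := by
    refine Polynomial.ringHom_ext (fun x => ?_) ?_
    · show f₁ (hz.polyEquiv U hU (Polynomial.C x)) = f₂ (hz.polyEquiv U hU (Polynomial.C x))
      rw [hz.polyEquiv_apply, Polynomial.eval₂_C]
      exact RingHom.congr_fun hg x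
    · show f₁ (hz.polyEquiv U hU Polynomial.X) = f₂ (hz.polyEquiv U hU Polynomial.X)
      rw [hz.polyEquiv_apply, Polynomial.eval₂_X]
      exact hz'
  refine RingHom.ext fun x => ?_
  obtain ⟨p, rfl⟩ := (hz.polyEquiv U hU).surjective x
  exact RingHom.congr_fun key p

include hk he in
theorem deg_induction {n : ℕ} (P : 𝒯h.presheaf.obj (op U) → Prop) (h0 : P 0)
    (hadd : ∀ a b, P a → P b → P (a + b))
    (hmono : ∀ (r : Γ(Y, U)) (i j : ℕ), i + j = n →
      P (𝒯h.str.app (op U) r * tU (k := k) hz hU e ^ i * zU 𝒯h z U ^ j))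
    {x : 𝒯h.presheaf.obj (op U)} (hx : x ∈ 𝒯h.deg U hU n) : P x := by
  classical
  obtain ⟨f, hf1, hf2, hf3⟩ := exists_lift hk hz hU he (R := Polynomial (Polynomial Γ(Y, U)))
    (Polynomial.C.comp Polynomial.C) (Polynomial.C Polynomial.X) Polynomial.X
  let π : Polynomial (Polynomial Γ(Y, U)) →+* 𝒯h.presheaf.obj (op U) := Polynomial.eval₂RingHom
    (Polynomial.eval₂RingHom (𝒯h.str.app (op U)).hom (tU (k := k) hz hU e)) (zU 𝒯h z U)
  have hid : π.comp f = RingHom.id _ := by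
    refine hom_ext hk hz hU he _ _ (fun r => ?_) ?_ ?_
    · simp [π, hf1]
    · simp [π, hf2]
    · simp [π, hf3]
  have key : ∀ q, P (GradedRing.proj (𝒯h.deg U hU) n (π q)) := by
    intro q
    induction q using Polynomial.induction_on' with
    | add a b ha hb => rw [map_add, map_add]; exact hadd _ _ ha hb
    | monomial j p =>
      induction p using Polynomial.induction_on' with
      | add a b ha hb => rw [map_add, map_add, map_add]; exact hadd _ _ ha hb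
      | monomial i r =>
        have hπ : π (Polynomial.monomial j (Polynomial.monomial i r)) =
            𝒯h.str.app (op U) r * tU (k := k) hz hU e ^ i * zU 𝒯h z U ^ j := by
          simp [π, Polynomial.eval₂_monomial]
        have hmem : 𝒯h.str.app (op U) r * tU (k := k) hz hU e ^ i * zU 𝒯h z U ^ j ∈ 𝒯h.deg U hU (i + j) := by
          refine SetLike.mul_mem_graded ?_ (by simpa using SetLike.pow_mem_graded j (hz.deg_z U hU))
          simpa using SetLike.mul_mem_graded (𝒯h.str_mem U hU r) (SetLike.pow_mem_graded i (tU_mem hk hz hU e))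
        rw [hπ, GradedRing.proj_apply]
        by_cases h : i + j = n
        · rw [DirectSum.decompose_of_mem_same _ (h ▸ hmem)]
          exact hmono r i j h
        · rw [DirectSum.decompose_of_mem_ne _ hmem h]
          exact h0
  have h := key (f x)
  rwa [show π (f x) = x from RingHom.congr_fun hid x, GradedRing.proj_apply,
    DirectSum.decompose_of_mem_same _ hx] at h

include hk he in
theorem domOpen_eq : RelCone.domOpen (RelProj.gradedHomAt ι hz.graded U hU) =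
    Proj.basicOpen (𝒯h.deg U hU) (tU (k := k) hz hU e) := by
  obtain ⟨f, hf1, hf2, hf3⟩ := exists_lift hk hz hU he (R := 𝒯h.presheaf.obj (op U))
    (𝒯h.str.app (op U)).hom (tU (k := k) hz hU e) 0
  have hfix : f.comp (RelProj.gradedHomAt ι hz.graded U hU).toRingHom =
      (RelProj.gradedHomAt ι hz.graded U hU).toRingHom :=
    homT_ext hk hU he _ _ (fun r => by
      have h := MiscFlat6.gradedHomAt_strZero (φ := ι) (hφ := hz.graded) U hU r
      exact (congrArg f h).trans ((hf1 r).trans h.symm)) hf2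
  ext x
  constructor
  · intro hx
    obtain ⟨i, hi⟩ := (RelConeLib.mem_domOpen_iff _ _).mp hx
    rw [Proj.mem_basicOpen] at hi
    show x ∈ Proj.basicOpen _ _
    rw [Proj.mem_basicOpen]
    intro hxe
    refine hi ?_
    have h : f (RelProj.gradedHomAt ι hz.graded U hU i.el) ∈ x.asHomogeneousIdeal.toIdeal := by
      refine deg_induction hk hz hU he (fun b => f b ∈ x.asHomogeneousIdeal.toIdeal) ?_ ?_ ?_
        ((RelProj.gradedHomAt ι hz.graded U hU).2 i.mem)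
      · rw [map_zero]; exact zero_mem _
      · intro a b ha hb; rw [map_add]; exact add_mem ha hb
      · intro r a b hab
        rw [map_mul, map_mul, map_pow, map_pow, hf2, hf3]
        rcases Nat.eq_zero_or_pos b with rfl | hb
        · refine Ideal.mul_mem_right _ _ (Ideal.mul_mem_left _ _ (Ideal.pow_mem_of_mem _ hxe _ ?_))
          have := i.pos
          omega
        · rw [zero_pow hb.ne', mul_zero]
          exact zero_mem _
    exact (congrArg (· ∈ x.asHomogeneousIdeal.toIdeal) (RingHom.congr_fun hfix i.el)).mp h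
  · intro hx
    exact (RelConeLib.mem_domOpen_iff _ _).mpr ⟨⟨1, k.app U e, one_pos, hk.2 U hU e⟩, hx⟩

end One

section Swap

variable {M N : Y.Modules} [Coh.IsQCoh M] [Coh.IsQCoh N] {𝒯 𝒯h 𝒩 𝒩h : RelProj.QCGrAlg Y}
  {k : M ⟶ 𝒯.toModule} (hk : RelProj.IsGrSymAlg M 𝒯 k) {ι : 𝒯.toQCAlg ⟶ 𝒯h.toQCAlg}
  {z : 𝒯h.presheaf.obj (op ⊤)} (hz : RelCone.IsPolyOver 𝒯 𝒯h ι z)
  {l : N ⟶ 𝒩.toModule} (hl : RelProj.IsGrSymAlg N 𝒩 l) {κ : 𝒩.toQCAlg ⟶ 𝒩h.toQCAlg}
  {w : 𝒩h.presheaf.obj (op ⊤)} (hw : RelCone.IsPolyOver 𝒩 𝒩h κ w)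
  {U : Y.Opens} (hU : IsAffineOpen U) {e : Γ(M, U)} (he : GenOn M e) {d : Γ(N, U)} (hd : GenOn N d)

include hk hl he in
theorem exists_swap : ∃ f : 𝒯h.deg U hU →+*ᵍ 𝒩h.deg U hU,
    (∀ r, f (𝒯h.str.app (op U) r) = 𝒩h.str.app (op U) r) ∧
      f (tU (k := k) hz hU e) = zU 𝒩h w U ∧ f (zU 𝒯h z U) = tU (k := l) hw hU d := by
  obtain ⟨f, hf1, hf2, hf3⟩ := exists_lift hk hz hU he (R := 𝒩h.presheaf.obj (op U))
    (𝒩h.str.app (op U)).hom (zU 𝒩h w U) (tU (k := l) hw hU d)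
  have hmem : ∀ {n : ℕ} {x : 𝒯h.presheaf.obj (op U)}, x ∈ 𝒯h.deg U hU n → f x ∈ 𝒩h.deg U hU n := by
    intro n x hx
    refine deg_induction hk hz hU he (fun b => f b ∈ 𝒩h.deg U hU n) ?_ ?_ ?_ hx
    · rw [map_zero]; exact zero_mem _
    · intro a b ha hb; rw [map_add]; exact add_mem ha hb
    · intro r i j hij
      rw [map_mul, map_mul, map_pow, map_pow, hf1, hf2, hf3, ← hij]
      refine SetLike.mul_mem_graded ?_ (by simpa using SetLike.pow_mem_graded j (tU_mem hl hw hU d))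
      simpa using SetLike.mul_mem_graded (𝒩h.str_mem U hU r) (SetLike.pow_mem_graded i (hw.deg_z U hU))
  exact ⟨{ f with map_mem := hmem }, hf1, hf2, hf3⟩

def swap : 𝒯h.deg U hU →+*ᵍ 𝒩h.deg U hU := (exists_swap hk hz hl hw hU he (d := d)).choose

theorem swap_str (r : Γ(Y, U)) :
    swap hk hz hl hw hU he (d := d) (𝒯h.str.app (op U) r) = 𝒩h.str.app (op U) r :=
  (exists_swap hk hz hl hw hU he (d := d)).choose_spec.1 r

theorem swap_t : swap hk hz hl hw hU he (d := d) (tU (k := k) hz hU e) = zU 𝒩h w U :=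
  (exists_swap hk hz hl hw hU he (d := d)).choose_spec.2.1

theorem swap_z : swap hk hz hl hw hU he (d := d) (zU 𝒯h z U) = tU (k := l) hw hU d :=
  (exists_swap hk hz hl hw hU he (d := d)).choose_spec.2.2

theorem swap_swap (x : 𝒯h.presheaf.obj (op U)) :
    swap hl hw hk hz hU hd (d := e) (swap hk hz hl hw hU he (d := d) x) = x := by
  refine RingHom.congr_fun (hom_ext hk hz hU he
    ((swap hl hw hk hz hU hd (d := e)).toRingHom.comp (swap hk hz hl hw hU he (d := d)).toRingHom)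
    (RingHom.id _) (fun r => ?_) ?_ ?_) x
  · exact (congrArg _ (swap_str hk hz hl hw hU he r)).trans (swap_str hl hw hk hz hU hd r)
  · exact (congrArg _ (swap_t hk hz hl hw hU he)).trans (swap_z hl hw hk hz hU hd)
  · exact (congrArg _ (swap_z hk hz hl hw hU he)).trans (swap_t hl hw hk hz hU hd)

include hd in
theorem swap_irr : (𝒩h.deg U hU)₊ ≤ ((𝒯h.deg U hU)₊).map (swap hk hz hl hw hU he (d := d)) := by
  refine (HomogeneousIdeal.irrelevant_le _).mpr fun n hn b hb => ?_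
  have h : swap hk hz hl hw hU he (d := d) (swap hl hw hk hz hU hd (d := e) b) = b :=
    swap_swap hl hw hk hz hU hd he b
  rw [← h]
  exact Ideal.mem_map_of_mem _ (HomogeneousIdeal.mem_irrelevant_of_mem _ hn ((swap hl hw hk hz hU hd (d := e)).2 hb))

theorem isIso_map_swap :
    IsIso (Proj.map (swap hk hz hl hw hU he (d := d)) (swap_irr hk hz hl hw hU he hd)) := by
  refine ⟨Proj.map (swap hl hw hk hz hU hd (d := e)) (swap_irr hl hw hk hz hU hd he), ?_, ?_⟩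
  · rw [← Proj.map_comp]
    refine (map_congr ?_ _ (by simp)).trans Proj.map_id
    exact GradedRingHom.ext fun x => swap_swap hl hw hk hz hU hd he x
  · rw [← Proj.map_comp]
    refine (map_congr ?_ _ (by simp)).trans Proj.map_id
    exact GradedRingHom.ext fun x => swap_swap hk hz hl hw hU he hd x

end Swap

section Glue

variable {PC PC' : Scheme.{u}} {L L' : Y.Modules} [Coh.IsQCoh L] [Coh.IsQCoh L']
  {τ : CohB1.tensorMod L L' ⟶ Coh.structureModule Y}
  {𝒮 𝒮h 𝒮' 𝒮h' : RelProj.QCGrAlg Y} {j : L ⟶ 𝒮.toModule} (hS : RelProj.IsGrSymAlg L 𝒮 j)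
  {ι : 𝒮.toQCAlg ⟶ 𝒮h.toQCAlg} {z : 𝒮h.presheaf.obj (op ⊤)} (hz : RelCone.IsPolyOver 𝒮 𝒮h ι z) {pC : PC ⟶ Y}
  {chartC : ∀ (U : Y.Opens) (hU : IsAffineOpen U), (((pC ⁻¹ᵁ U : PC.Opens) : Scheme.{u}) ≅ Proj (𝒮h.deg U hU))}
  (hPC : RelProj.IsRelProj 𝒮h pC chartC)
  {j' : L' ⟶ 𝒮'.toModule} (hS' : RelProj.IsGrSymAlg L' 𝒮' j') {ι' : 𝒮'.toQCAlg ⟶ 𝒮h'.toQCAlg}
  {z' : 𝒮h'.presheaf.obj (op ⊤)} (hz' : RelCone.IsPolyOver 𝒮' 𝒮h' ι' z') {pC' : PC' ⟶ Y}
  {chartC' : ∀ (U : Y.Opens) (hU : IsAffineOpen U), (((pC' ⁻¹ᵁ U : PC'.Opens) : Scheme.{u}) ≅ Proj (𝒮h'.deg U hU))}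
  (hPC' : RelProj.IsRelProj 𝒮h' pC' chartC') (t : Frame τ)

abbrev rho : 𝒮h'.deg t.U t.hU →+*ᵍ 𝒮h.deg t.U t.hU := swap hS' hz' hS hz t.hU t.he' (d := t.e)

abbrev mu : Proj (𝒮h.deg t.U t.hU) ⟶ Proj (𝒮h'.deg t.U t.hU) :=
  Proj.map (rho hS hz hS' hz' t) (swap_irr hS' hz' hS hz t.hU t.he' t.he)

def psi : Proj (𝒮h.deg t.U t.hU) ⟶ PC' := mu hS hz hS' hz' t ≫ RelProj.emb pC' chartC' t.U t.hU

include hPC hPC' in
theorem psi_over : psi (chartC' := chartC') hS hz hS' hz' t ≫ pC' = RelProj.emb pC chartC t.U t.hU ≫ pC := by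
  rw [psi, Category.assoc, RelConeLib.emb_over hPC', RelConeLib.emb_over hPC]
  refine (Proj.affineOpenCover (𝒮h.deg t.U t.hU)).openCover.hom_ext _ _ fun s => ?_
  obtain ⟨⟨n, hn⟩, ⟨a, ha⟩⟩ := s
  show Proj.awayι (𝒮h.deg t.U t.hU) a ha hn ≫ _ = Proj.awayι (𝒮h.deg t.U t.hU) a ha hn ≫ _
  let σ := swap hS hz hS' hz' t.hU t.he (d := t.e')
  obtain ⟨b, hb, rfl⟩ : ∃ b, b ∈ 𝒮h'.deg t.U t.hU n ∧ rho hS hz hS' hz' t b = a :=
    ⟨σ a, σ.2 ha, swap_swap hS hz hS' hz' t.hU t.he t.he' a⟩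
  rw [reassoc_of% (Proj.awayι_comp_map (rho hS hz hS' hz' t) _ hn b hb), Proj.awayι_toSpecZero_assoc,
    Proj.awayι_toSpecZero_assoc, ← Spec.map_comp_assoc, ← Spec.map_comp_assoc, ← Spec.map_comp_assoc]
  congr 2
  refine CommRingCat.hom_ext (RingHom.ext fun r => ?_)
  refine val_injective _ ?_
  show HomogeneousLocalization.val (Away.map (rho hS hz hS' hz' t) b
    (HomogeneousLocalization.mk ⟨0, (𝒮h'.strZero t.U t.hU).hom r, (1 : 𝒮h'.deg t.U t.hU 0), one_mem _⟩)) = _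
  erw [HomogeneousLocalization.map_mk]
  simp [HomogeneousLocalization.val_mk, ← Localization.mk_one_eq_algebraMap]
  congr 1
  exact swap_str hS' hz' hS hz t.hU t.he' r

include hPC hPC' in
theorem psi_res (s : Frame τ) (r : Γ(Y, t.U)) (hs : s.U = Y.basicOpen r) (hle : s.U ≤ t.U) :
    ∃ m : Proj (𝒮h.deg s.U s.hU) ⟶ Proj (𝒮h.deg t.U t.hU),
      m ≫ RelProj.emb pC chartC t.U t.hU = RelProj.emb pC chartC s.U s.hU ∧
        m ≫ psi (chartC' := chartC') hS hz hS' hz' t = psi (chartC' := chartC') hS hz hS' hz' s := by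
  obtain ⟨W, hW, f, hf, f', hf', hff⟩ := s
  simp only at hs
  subst hs
  let fr : Frame τ := ⟨Y.basicOpen r, hW, f, hf, f', hf', hff⟩
  let ρh := 𝒮h.res t.hU hW hle
  let ρh' := 𝒮h'.res t.hU hW hle
  refine ⟨Proj.map ρh (𝒮h.irrelevant_le_map t.U t.hU r), RelProj.map_res_emb hPC t.U t.hU r, ?_⟩
  obtain ⟨c, hc⟩ := (hf _ le_rfl).2 (res L hle t.e)
  obtain ⟨c', hc'⟩ := (hf' _ le_rfl).2 (res L' hle t.e')
  simp only [AmpleLib.res_refl] at hc hc'
  have huw : c * c' = 1 := by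
    have h := PCInvLib.tau_res hle t.e t.e' t.hτ
    rw [← hc, ← hc', AmpleLib.shT_smul, QCohLib.app_smul, hff] at h
    exact (mul_one _).symm.trans h
  have ht : ρh (tU (k := j) hz t.hU t.e) =
      𝒮h.str.app (op (Y.basicOpen r)) c * tU (k := j) hz hW f := by
    have hjs : 𝒮.res t.hU hW hle (j.app t.U t.e) = 𝒮.str.app (op (Y.basicOpen r)) c * (show 𝒮.presheaf.obj (op (Y.basicOpen r)) from j.app (Y.basicOpen r) f) := by
      refine ((QCohLib.app_map j (homOfLE hle) t.e).symm.trans (congrArg (fun m => j.app (Y.basicOpen r) m) hc.symm)).trans ?_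
      exact QCohLib.app_smul j _ c f
    rw [RelConeLib.res_gradedHomAt hz.graded t.hU hW hle (j.app t.U t.e), hjs, map_mul]
    exact congrArg (· * _) (MiscFlat6.gradedHomAt_strZero (φ := ι) (hφ := hz.graded) _ hW c)
  have ht' : ρh' (tU (k := j') hz' t.hU t.e') =
      𝒮h'.str.app (op (Y.basicOpen r)) c' * tU (k := j') hz' hW f' := by
    have hjs : 𝒮'.res t.hU hW hle (j'.app t.U t.e') =
        𝒮'.str.app (op (Y.basicOpen r)) c' * (show 𝒮'.presheaf.obj (op (Y.basicOpen r)) from j'.app (Y.basicOpen r) f') := by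
      refine ((QCohLib.app_map j' (homOfLE hle) t.e').symm.trans (congrArg (fun m => j'.app (Y.basicOpen r) m) hc'.symm)).trans ?_
      exact QCohLib.app_smul j' _ c' f'
    rw [RelConeLib.res_gradedHomAt hz'.graded t.hU hW hle (j'.app t.U t.e'), hjs, map_mul]
    exact congrArg (· * _) (MiscFlat6.gradedHomAt_strZero (φ := ι') (hφ := hz'.graded) _ hW c')
  have hzr : ρh (zU 𝒮h z t.U) = zU 𝒮h z (Y.basicOpen r) := RelConeLib.restrictTop_res t.U t.hU hW hle
  have hzr' : ρh' (zU 𝒮h' z' t.U) = zU 𝒮h' z' (Y.basicOpen r) := RelConeLib.restrictTop_res t.U t.hU hW hle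
  have hE : Proj.map ρh (𝒮h.irrelevant_le_map t.U t.hU r) ≫ mu hS hz hS' hz' t =
      mu hS hz hS' hz' fr ≫ Proj.map ρh' (𝒮h'.irrelevant_le_map t.U t.hU r) := by
    rw [← Proj.map_comp, ← Proj.map_comp]
    refine map_eq_of_twist _ _ _ _ (𝒮h.str.app (op (Y.basicOpen r)) c) (𝒮h.str.app (op (Y.basicOpen r)) c')
      (𝒮h.str_mem _ hW c') (by rw [← map_mul, huw, map_one]) fun n a ha => ?_
    refine deg_induction hS' hz' t.hU t.he' (n := n) (fun b => ρh (rho hS hz hS' hz' t b) =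
      𝒮h.str.app (op (Y.basicOpen r)) c ^ n * rho hS hz hS' hz' fr (ρh' b)) ?_ ?_ ?_ ha
    · simp only [map_zero, mul_zero]
    · intro a b ha hb
      simp only [map_add, mul_add, ha, hb]
    · intro q i m him
      have hq : ρh (𝒮h.str.app (op t.U) q) = 𝒮h.str.app (op (Y.basicOpen r)) (Y.presheaf.map (homOfLE hle).op q) :=
        (NatTrans.naturality_apply 𝒮h.str (homOfLE hle).op q).symm
      have hq' : ρh' (𝒮h'.str.app (op t.U) q) = 𝒮h'.str.app (op (Y.basicOpen r)) (Y.presheaf.map (homOfLE hle).op q) :=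
        (NatTrans.naturality_apply 𝒮h'.str (homOfLE hle).op q).symm
      simp only [map_mul, map_pow]
      erw [swap_str hS' hz' hS hz t.hU t.he', swap_t hS' hz' hS hz t.hU t.he', swap_z hS' hz' hS hz t.hU t.he',
        hq', ht', hzr', hq, ht, hzr]
      simp only [map_mul]
      erw [swap_str hS' hz' hS hz hW hf', swap_str hS' hz' hS hz hW hf', swap_t hS' hz' hS hz hW hf',
        swap_z hS' hz' hS hz hW hf']
      simp only [mul_pow]
      have hcc : (𝒮h.str.app (op (Y.basicOpen r)) c) ^ n * (𝒮h.str.app (op (Y.basicOpen r)) c') ^ i =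
          (𝒮h.str.app (op (Y.basicOpen r)) c) ^ m := by
        rw [← him, pow_add, mul_right_comm, ← mul_pow, ← map_mul, huw, map_one, one_pow, one_mul]
      linear_combination -(𝒮h.str.app (op (Y.basicOpen r)) (Y.presheaf.map (homOfLE hle).op q)) *
        (zU 𝒮h z (Y.basicOpen r)) ^ i * (tU (k := j) hz hW f) ^ m * hcc
  rw [psi, ← Category.assoc, hE, Category.assoc, RelProj.map_res_emb hPC' t.U t.hU r]
  rfl

include hS hz hPC hS' hz' hPC' in
theorem exists_iso (hL : PicF.IsInvertible L) (hL' : PicF.IsInvertible L') [IsIso τ]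
    {i : 𝒮.toQCAlg.spec ⟶ PC} (hi : RelCone.IsConeImm 𝒮 hz pC chartC i)
    {i' : 𝒮'.toQCAlg.spec ⟶ PC'} (hi' : RelCone.IsConeImm 𝒮' hz' pC' chartC' i') :
    ∃ Φ : PC ≅ PC', Φ.hom ≫ pC' = pC ∧
      (∀ x, Φ.hom x ∈ Set.range i' ↔ x ∈ RelCone.pointedProjCone 𝒮 hz pC chartC) ∧
      (∀ x, Φ.hom x ∈ RelCone.pointedProjCone 𝒮' hz' pC' chartC' ↔ x ∈ Set.range i) := by
  have hcov : ∀ y : Y, ∃ t : Frame τ, y ∈ t.U := PCInvLib.exists_frame hL hL'
  have hcovX : ∀ x : PC, ∃ t : Frame τ, x ∈ (RelProj.emb pC chartC t.U t.hU).opensRange := fun x => by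
    obtain ⟨t, ht⟩ := hcov (pC x)
    exact ⟨t, by rw [RelConeLib.emb_opensRange]; exact ht⟩
  obtain ⟨Φ, hΦ, -⟩ := RelConeLib.existsUnique_glue_local (fun t : Frame τ => RelProj.emb pC chartC t.U t.hU)
    (fun t => psi (chartC' := chartC') hS hz hS' hz' t) hcovX
    (fun a b x hx hx' => by
      have hxa : pC x ∈ a.U := (RelConeLib.emb_opensRange (chart := chartC) a.U a.hU).le hx
      have hxb : pC x ∈ b.U := (RelConeLib.emb_opensRange (chart := chartC) b.U b.hU).le hx'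
      obtain ⟨r, r', e, hr⟩ := exists_basicOpen_le_affine_inter a.hU b.hU _ ⟨hxa, hxb⟩
      let k := a.restrict (a.hU.basicOpen r) (Y.basicOpen_le r)
      have hkb : k.U ≤ b.U := e.le.trans (Y.basicOpen_le r')
      obtain ⟨m, hm1, hm2⟩ := psi_res hS hz hPC hS' hz' hPC' a k r rfl (Y.basicOpen_le r)
      obtain ⟨m', hm1', hm2'⟩ := psi_res hS hz hPC hS' hz' hPC' b k r' e hkb
      exact ⟨k, m, m', (RelConeLib.emb_opensRange (chart := chartC) k.U k.hU).ge hr, hm1, hm1', hm2, hm2'⟩)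
  have hover : Φ ≫ pC' = pC := by
    refine RelConeLib.ext_of_charts _ _ fun x => ?_
    obtain ⟨t, ht⟩ := hcovX x
    refine ⟨_, RelProj.emb pC chartC t.U t.hU, inferInstance, ht, ?_⟩
    rw [← Category.assoc, hΦ t, psi_over hS hz hPC hS' hz' hPC' t]
  haveI : IsIso Φ := by
    refine RelConeLib.of_squares (MorphismProperty.isomorphisms Scheme.{u}) Φ
      (fun t : Frame τ => RelProj.emb pC chartC t.U t.hU) (fun t => RelProj.emb pC' chartC' t.U t.hU)
      (fun t => mu hS hz hS' hz' t) (fun t => hΦ t) (fun t => ?_) (fun x => ?_)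
      (fun t => isIso_map_swap hS' hz' hS hz t.hU t.he' t.he)
    · rw [RelConeLib.emb_opensRange, RelConeLib.emb_opensRange, ← Scheme.Hom.comp_preimage, hover]
    · obtain ⟨t, ht⟩ := hcov (pC' x)
      exact ⟨t, by rw [RelConeLib.emb_opensRange]; exact ht⟩
  refine ⟨asIso Φ, hover, fun x => ?_, fun x => ?_⟩
  · obtain ⟨t, v, rfl⟩ := hcovX x
    have e1 : Φ (RelProj.emb pC chartC t.U t.hU v) = RelProj.emb pC' chartC' t.U t.hU (mu hS hz hS' hz' t v) := by
      rw [← Scheme.Hom.comp_apply, hΦ t]; rfl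
    show Φ _ ∈ _ ↔ v ∈ RelProj.emb pC chartC t.U t.hU ⁻¹ᵁ RelCone.pointedProjCone 𝒮 hz pC chartC
    rw [e1, RelConeLib.mem_range_coneImm hz' hPC' hi' t.hU, RelConeLib.emb_preimage_pointedProjCone hz hPC,
      domOpen_eq hS hz t.hU t.he]
    show v ∈ Proj.basicOpen _ (rho hS hz hS' hz' t (zU 𝒮h' z' t.U)) ↔ _
    rw [swap_z]
  · obtain ⟨t, v, rfl⟩ := hcovX x
    have e1 : Φ (RelProj.emb pC chartC t.U t.hU v) = RelProj.emb pC' chartC' t.U t.hU (mu hS hz hS' hz' t v) := by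
      rw [← Scheme.Hom.comp_apply, hΦ t]; rfl
    show Φ _ ∈ _ ↔ _
    rw [e1, RelConeLib.mem_range_coneImm hz hPC hi t.hU]
    show mu hS hz hS' hz' t v ∈ RelProj.emb pC' chartC' t.U t.hU ⁻¹ᵁ RelCone.pointedProjCone 𝒮' hz' pC' chartC' ↔ _
    rw [RelConeLib.emb_preimage_pointedProjCone hz' hPC', domOpen_eq hS' hz' t.hU t.he']
    show v ∈ Proj.basicOpen _ (rho hS hz hS' hz' t (tU (k := j') hz' t.hU t.e')) ↔ _
    rw [swap_t]

include hPC in
theorem range_vertex {aug : 𝒮.toQCAlg ⟶ RelSpec.QCAlg.unit Y} (h0 : RelCone.StrZeroBij 𝒮)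
    (haug : RelCone.IsAugmentation 𝒮 aug) {ε : Y ⟶ 𝒮.toQCAlg.spec} (hε : RelCone.IsVertex 𝒮 aug ε)
    {i : 𝒮.toQCAlg.spec ⟶ PC} (hi : RelCone.IsConeImm 𝒮 hz pC chartC i) :
    Set.range (ε ≫ i).base = ((RelCone.pointedProjCone 𝒮 hz pC chartC : PC.Opens) : Set PC)ᶜ := by
  have hc := RelConeLib.compl_vertex h0 haug hε
  have hp := RelConeLib.coneImm_preimage_pointedProjCone hz hPC hi
  ext x
  constructor
  · rintro ⟨y, rfl⟩ hx
    have h : ε y ∈ RelCone.pointedCone 𝒮 := hp.le hx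
    exact (hc.le h) ⟨y, rfl⟩
  · intro hx
    obtain ⟨U, hU, v, rfl⟩ := RelConeLib.exists_emb (chart := chartC) x
    letI := RelConeLib.algι ι U
    have hv : v ∉ RelCone.domOpen (RelProj.gradedHomAt ι hz.graded U hU) := fun h =>
      hx ((RelConeLib.emb_preimage_pointedProjCone hz hPC U hU).ge h)
    have hv' := RelConeLib.notMem_of_notMem_domOpen (RelProj.gradedHomAt ι hz.graded U hU) (fun _ => rfl)
      (RelCone.restrictTop 𝒮h z U) (hz.deg_z U hU) (RelConeLib.hat_bij hz U hU) hv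
    obtain ⟨w, hw⟩ := (RelConeLib.mem_range_coneImm hz hPC hi hU v).mpr hv'
    have hw' : w ∉ RelCone.pointedCone 𝒮 := fun h => hx (by
      have h2 : i w ∈ RelCone.pointedProjCone 𝒮 hz pC chartC := hp.ge h
      rwa [hw] at h2)
    obtain ⟨y, hy⟩ : w ∈ Set.range ε.base := by
      by_contra h
      exact hw' (hc.ge h)
    exact ⟨y, (congrArg i hy).trans hw⟩

end Glue

end Groth.Agent.PCSwapLib
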